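import Groth.Agent.LocTrivFib.Rlp
import Groth.Agent.TrivFibHtpy.Basic
import Mathlib

/-! Locally surjective morphisms of coskeletal simplicial presheaves and free abelian chain complexes. -/

set_option autoImplicit false
set_option maxHeartbeats 1000000

universe u

open CategoryTheory CategoryTheory.Limits Opposite Simplicial AlgebraicTopology

noncomputable section

namespace Groth.Agent.LocTrivFib

variable {C : Type u} [SmallCategory C] {J : GrothendieckTopology C}

/-- The simplicial set of sections. -/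
abbrev evS (X : SimplicialObject (Cᵒᵖ ⥤ Type u)) (U : Cᵒᵖ) : SSet.{u} :=
  X ⋙ (evaluation Cᵒᵖ (Type u)).obj U

theorem isCoskeletal_ev {n : ℕ} (X : SimplicialObject (Cᵒᵖ ⥤ Type u)) [SimplicialObject.IsCoskeletal X n]
    (U : Cᵒᵖ) : SimplicialObject.IsCoskeletal (evS X U) n := by
  have hp := Functor.isPointwiseRightKanExtensionOfIsRightKanExtension X
    (𝟙 ((SimplexCategory.Truncated.inclusion n).op ⋙ X))
  have hq : (Functor.RightExtension.mk (evS X U)
      (𝟙 ((SimplexCategory.Truncated.inclusion n).op ⋙ evS X U))).IsPointwiseRightKanExtension := fun P =>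
    IsLimit.ofIsoLimit (isLimitOfPreserves ((evaluation Cᵒᵖ (Type u)).obj U) (hp P))
      (Cone.ext (Iso.refl _) fun j => by ext x; simp; rfl)
  exact ⟨hq.isRightKanExtension⟩

variable {L K : SimplicialObject (Cᵒᵖ ⥤ Type u)} (f : L ⟶ K) (n : ℕ)

/-- Simplices all of whose `n`-faces lift. -/
def Good (p : SimplexCategoryᵒᵖ) (U : Cᵒᵖ) : Set ((K.obj p).obj U) :=
  {x | ∀ φ : ⦋n⦌ ⟶ p.unop, ∃ y, (f.app (op ⦋n⦌)).app U y = (K.map φ.op).app U x}

/-- The image. -/
def Im : SimplicialObject (Cᵒᵖ ⥤ Type u) where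
  obj p :=
    { obj := fun U => {x : (K.obj p).obj U // x ∈ Good f n p U}
      map := fun {U V} g => ↾fun x => ⟨(K.obj p).map g x.1, fun φ => by
        obtain ⟨y, hy⟩ := x.2 φ
        exact ⟨(L.obj _).map g y, by rw [NatTrans.naturality_apply, hy, NatTrans.naturality_apply]⟩⟩
      map_id := fun U => by
        apply ConcreteCategory.hom_ext; intro x
        exact Subtype.ext (ConcreteCategory.congr_hom ((K.obj p).map_id U) x.1)
      map_comp := fun g h => by
        apply ConcreteCategory.hom_ext; intro x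
        exact Subtype.ext (ConcreteCategory.congr_hom ((K.obj p).map_comp g h) x.1) }
  map {p q} θ :=
    { app := fun U => ↾fun x => ⟨(K.map θ).app U x.1, fun φ => by
        obtain ⟨y, hy⟩ := x.2 (φ ≫ θ.unop)
        exact ⟨y, hy.trans (by simp [Functor.map_comp, op_comp])⟩⟩
      naturality := fun U V g => by
        apply ConcreteCategory.hom_ext; intro x
        refine Subtype.ext ?_
        exact NatTrans.naturality_apply (K.map θ) g _ }
  map_id p := by
    refine NatTrans.ext (funext fun U => ConcreteCategory.hom_ext _ _ fun x => ?_)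
    exact Subtype.ext (ConcreteCategory.congr_hom (NatTrans.congr_app (K.map_id p) U) x.1)
  map_comp θ ψ := by
    refine NatTrans.ext (funext fun U => ConcreteCategory.hom_ext _ _ fun x => ?_)
    exact Subtype.ext (ConcreteCategory.congr_hom (NatTrans.congr_app (K.map_comp θ ψ) U) x.1)

/-- Inclusion of the image. -/
def imι : Im f n ⟶ K where
  app p := { app := fun U => ↾fun x => x.1 }

/-- The map onto the image. -/
def toIm : L ⟶ Im f n where
  app p :=
    { app := fun U => ↾fun y => ⟨(f.app p).app U y, fun φ =>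
        ⟨(L.map φ.op).app U y, (ConcreteCategory.congr_hom (NatTrans.congr_app (f.naturality φ.op) U) y)⟩⟩
      naturality := fun U V g => by
        apply ConcreteCategory.hom_ext; intro y
        refine Subtype.ext ?_
        exact NatTrans.naturality_apply (f.app p) g _ }
  naturality p q θ := by
    refine NatTrans.ext (funext fun U => ConcreteCategory.hom_ext _ _ fun y => ?_)
    refine Subtype.ext ?_
    exact ConcreteCategory.congr_hom (NatTrans.congr_app (f.naturality θ) U) _

theorem toIm_imι : toIm f n ≫ imι f n = f := rfl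

variable (h1 : ∀ i : ℕ, i < n → IsIso (f.app (op ⦋i⦌)))
  [SimplicialObject.IsCoskeletal L n] [SimplicialObject.IsCoskeletal K n]

include h1 in
theorem rlp_toIm (U : Cᵒᵖ) :
    SSet.modelCategoryQuillen.I.rlp (Functor.whiskerRight (toIm f n) ((evaluation Cᵒᵖ (Type u)).obj U)) := by
  haveI := isCoskeletal_ev (n := n) L U
  haveI := isCoskeletal_ev (n := n) K U
  refine rlp_sub (n := n) (U := evS K U) _ (Functor.whiskerRight (imι f n) _) (fun p x y h => Subtype.ext h)
    (fun i hi => ?_) ?_
  · haveI := h1 i hi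
    have hb : Function.Bijective ((f.app (op ⦋i⦌)).app U) := ConcreteCategory.bijective_of_isIso _
    refine ⟨fun a b h => hb.1 (congrArg Subtype.val h), fun x => ?_⟩
    obtain ⟨y, hy⟩ := hb.2 x.1
    exact ⟨y, Subtype.ext hy⟩
  · intro x
    obtain ⟨y, hy⟩ := x.2 (𝟙 _)
    exact ⟨y, Subtype.ext (hy.trans (by simp))⟩

include h1 in
theorem surjective_toIm (p : SimplexCategoryᵒᵖ) (U : Cᵒᵖ) :
    Function.Surjective (((toIm f n).app p).app U) := by
  obtain ⟨s, hs⟩ := TrivFibHtpy.exists_section _ (rlp_toIm f n h1 U)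
  exact fun x => ⟨s.app p x, ConcreteCategory.congr_hom (NatTrans.congr_app hs p) x⟩

/-- Free abelian presheaves. -/
abbrev freeP : (Cᵒᵖ ⥤ Type u) ⥤ (Cᵒᵖ ⥤ AddCommGrpCat.{u}) :=
  (Functor.whiskeringRight Cᵒᵖ (Type u) AddCommGrpCat.{u}).obj AddCommGrpCat.free.{u}

include h1 in
theorem quasiIso_ev (U : Cᵒᵖ) :
    QuasiIso ((alternatingFaceMapComplex AddCommGrpCat.{u}).map
      (Functor.whiskerRight (Functor.whiskerRight (toIm f n) ((evaluation Cᵒᵖ (Type u)).obj U))
        AddCommGrpCat.free.{u})) := by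
  set a : evS L U ⟶ evS (Im f n) U := Functor.whiskerRight (toIm f n) ((evaluation Cᵒᵖ (Type u)).obj U)
  obtain ⟨s, hs⟩ := TrivFibHtpy.exists_section a (rlp_toIm f n h1 U)
  obtain ⟨H⟩ := TrivFibHtpy.nonempty_homotopy (rlp_toIm f n h1 U) (a := a ≫ s) (b := 𝟙 _)
    (by rw [Category.assoc, hs, Category.comp_id, Category.id_comp])
  let A := (alternatingFaceMapComplex AddCommGrpCat.{u}).obj
  let e : HomotopyEquiv ((alternatingFaceMapComplex AddCommGrpCat.{u}).obj (evS L U ⋙ AddCommGrpCat.free.{u}))
      ((alternatingFaceMapComplex AddCommGrpCat.{u}).obj (evS (Im f n) U ⋙ AddCommGrpCat.free.{u})) :=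
    { hom := (alternatingFaceMapComplex _).map (Functor.whiskerRight a _)
      inv := (alternatingFaceMapComplex _).map (Functor.whiskerRight s _)
      homotopyHomInvId := (Homotopy.ofEq (by
          rw [← Functor.map_comp, ← Functor.whiskerRight_comp]; rfl)).trans
        ((SimplicialObject.Homotopy.toChainHomotopy (H.toSimplicialObjectHomotopy.whiskerRight _)).trans
          (Homotopy.ofEq (by rw [CategoryTheory.Functor.map_id, CategoryTheory.Functor.map_id]; rfl)))
      homotopyInvHomId := Homotopy.ofEq (by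
        rw [← Functor.map_comp, ← Functor.whiskerRight_comp, hs, Functor.whiskerRight_id']
        exact CategoryTheory.Functor.map_id _ _) }
  have he : QuasiIso e.hom := ⟨fun i => by
    rw [quasiIsoAt_iff_isIso_homologyMap]
    exact ⟨(e.toHomologyIso i).inv, (e.toHomologyIso i).hom_inv_id, (e.toHomologyIso i).inv_hom_id⟩⟩
  exact he

include h1 in
theorem quasiIso_toIm :
    QuasiIso ((alternatingFaceMapComplex _).map (Functor.whiskerRight (toIm f n) freeP)) := by
  refine ⟨fun i => ?_⟩
  rw [quasiIsoAt_iff_isIso_homologyMap]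
  set φ := (alternatingFaceMapComplex _).map (Functor.whiskerRight (toIm f n) freeP)
  refine (NatTrans.isIso_iff_isIso_app _).2 fun U => ?_
  let E := (evaluation Cᵒᵖ AddCommGrpCat.{u}).obj U
  haveI : QuasiIso ((E.mapHomologicalComplex _).map φ) := by
    have h := congrArg (fun G : SimplicialObject (Cᵒᵖ ⥤ AddCommGrpCat.{u}) ⥤ _ =>
      Arrow.mk (G.map (Functor.whiskerRight (toIm f n) freeP))) (map_alternatingFaceMapComplex E)
    exact (quasiIso_iff_of_arrow_mk_iso _ _ (eqToIso h)).2 (quasiIso_ev f n h1 U)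
  show IsIso (E.map (HomologicalComplex.homologyMap φ i))
  have h' : IsIso (HomologicalComplex.homologyMap ((E.mapHomologicalComplex _).map φ) i) := inferInstance
  have h'' : IsIso (ShortComplex.homologyMap (E.mapShortComplex.map
      ((HomologicalComplex.shortComplexFunctor _ _ i).map φ))) := h'
  exact (MorphismProperty.arrow_mk_iso_iff (MorphismProperty.isomorphisms _)
    (Arrow.isoMk (ShortComplex.mapHomologyIso _ E) (ShortComplex.mapHomologyIso _ E)
      (ShortComplex.mapHomologyIso_hom_naturality _ _).symm)).1 h''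

theorem isIso_sheafify_free {A B : Cᵒᵖ ⥤ Type u} (g : A ⟶ B) [Presheaf.IsLocallyInjective J g]
    [Presheaf.IsLocallySurjective J g] :
    IsIso ((presheafToSheaf J AddCommGrpCat.{u}).map (freeP.map g)) := by
  rw [← J.W_iff]
  intro Z hZ
  have hW : J.W g := J.W_of_isLocallyBijective g
  have hb := hW (Z ⋙ CategoryTheory.forget AddCommGrpCat.{u}) (Presheaf.isSheaf_comp_of_isSheaf J Z _ hZ)
  let adj := AddCommGrpCat.adj.{u}.whiskerRight Cᵒᵖ
  have : (fun k : freeP.obj B ⟶ Z => freeP.map g ≫ k) =
      (adj.homEquiv A Z).symm ∘ (fun k => g ≫ k) ∘ (adj.homEquiv B Z) := funext fun k =>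
    (adj.homEquiv A Z).injective (by
      simp only [Function.comp_apply, Equiv.apply_symm_apply]
      exact adj.homEquiv_naturality_left g k)
  rw [this]
  exact (adj.homEquiv A Z).symm.bijective.comp (hb.comp (adj.homEquiv B Z).bijective)

instance imι_injective (p : SimplexCategoryᵒᵖ) : Presheaf.IsLocallyInjective J ((imι f n).app p) :=
  Presheaf.isLocallyInjective_of_injective J _ fun _ _ _ h => Subtype.ext h

omit [SimplicialObject.IsCoskeletal L n] [SimplicialObject.IsCoskeletal K n] in
theorem imι_surjective (h2 : Presheaf.IsLocallySurjective J (f.app (op ⦋n⦌))) (p : SimplexCategoryᵒᵖ) :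
    Presheaf.IsLocallySurjective J ((imι f n).app p) := by
  classical
  refine ⟨fun {U} x => ?_⟩
  letI := Fintype.ofFinite (⦋n⦌ ⟶ p.unop)
  have key : ∀ s : Finset (⦋n⦌ ⟶ p.unop), ∃ S : Sieve U, S ∈ J U ∧ ∀ ⦃V : C⦄ (g : V ⟶ U), S g →
      ∀ φ ∈ s, ∃ y, (f.app (op ⦋n⦌)).app (op V) y = (K.obj _).map g.op ((K.map φ.op).app (op U) x) := by
    intro s
    induction s using Finset.induction_on with
    | empty => exact ⟨⊤, J.top_mem U, fun V g _ φ h => absurd h (Finset.notMem_empty φ)⟩
    | insert a s _ ih =>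
      obtain ⟨S, hS, h⟩ := ih
      refine ⟨Presheaf.imageSieve (f.app (op ⦋n⦌)) ((K.map a.op).app (op U) x) ⊓ S,
        J.intersection_covering (Presheaf.imageSieve_mem J _ _) hS, fun V g hg φ hφ => ?_⟩
      rcases Finset.mem_insert.1 hφ with rfl | hφ
      · exact hg.1
      · exact h g hg.2 φ hφ
  obtain ⟨S, hS, h⟩ := key Finset.univ
  refine J.superset_covering ?_ hS
  intro V g hg
  refine ⟨⟨(K.obj p).map g.op x, fun φ => ?_⟩, rfl⟩
  obtain ⟨y, hy⟩ := h g hg φ (Finset.mem_univ φ)
  exact ⟨y, hy.trans (NatTrans.naturality_apply (K.map φ.op) g.op x).symm⟩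

/-- The functor of free abelian sheaves. -/
abbrev freeS : (Cᵒᵖ ⥤ Type u) ⥤ Sheaf J AddCommGrpCat.{u} := freeP ⋙ presheafToSheaf J AddCommGrpCat.{u}

include h1 in
theorem quasiIso_free (h2 : Presheaf.IsLocallySurjective J (f.app (op ⦋n⦌))) :
    QuasiIso ((alternatingFaceMapComplex _).map (Functor.whiskerRight f (freeS (J := J)))) := by
  rw [← toIm_imι f n, Functor.whiskerRight_comp, Functor.map_comp]
  haveI : IsIso (Functor.whiskerRight (imι f n) (freeS (J := J))) := by
    refine (NatTrans.isIso_iff_isIso_app _).2 fun p => ?_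
    haveI := imι_surjective f n h2 p
    exact isIso_sheafify_free ((imι f n).app p)
  haveI : QuasiIso ((alternatingFaceMapComplex _).map (Functor.whiskerRight (toIm f n) (freeS (J := J)))) := by
    haveI := quasiIso_toIm f n h1
    have hq : QuasiIso (((presheafToSheaf J AddCommGrpCat.{u}).mapHomologicalComplex _).map
        ((alternatingFaceMapComplex _).map (Functor.whiskerRight (toIm f n) freeP))) := inferInstance
    have h := congrArg (fun G : SimplicialObject (Cᵒᵖ ⥤ AddCommGrpCat.{u}) ⥤ _ =>
      Arrow.mk (G.map (Functor.whiskerRight (toIm f n) freeP)))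
      (map_alternatingFaceMapComplex (presheafToSheaf J AddCommGrpCat.{u}))
    exact (quasiIso_iff_of_arrow_mk_iso _ _ (eqToIso h)).1 hq
  infer_instance

include h1 in
theorem locallySurjective_app (h2 : Presheaf.IsLocallySurjective J (f.app (op ⦋n⦌))) (p : SimplexCategoryᵒᵖ) :
    Presheaf.IsLocallySurjective J (f.app p) := by
  haveI := imι_surjective f n h2 p
  haveI : Presheaf.IsLocallySurjective J ((toIm f n).app p) :=
    Presheaf.isLocallySurjective_of_surjective J _ fun U => surjective_toIm f n h1 p U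
  exact (inferInstance : Presheaf.IsLocallySurjective J ((toIm f n).app p ≫ (imι f n).app p))

end Groth.Agent.LocTrivFib
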