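import Mathlib

/-! Surjection onto a simplicial subset of a coskeletal one. -/

set_option autoImplicit false
set_option backward.isDefEq.respectTransparency false

universe u

open CategoryTheory Opposite Simplicial SimplexCategory

namespace Groth.Agent.LocTrivFib

variable {U V W : SSet.{u}} {n : ℕ}

/-- `f : V ⟶ W` with `W ⊆ U`, both `U`, `V` coskeletal. -/
theorem rlp_sub (f : V ⟶ W) (ι : W ⟶ U) (hι : ∀ p, Function.Injective (ι.app p))
    (h1 : ∀ i : ℕ, i < n → Function.Bijective (f.app (op ⦋i⦌))) (h2 : Function.Surjective (f.app (op ⦋n⦌)))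
    [SimplicialObject.IsCoskeletal U n] [SimplicialObject.IsCoskeletal V n] :
    SSet.modelCategoryQuillen.I.rlp f := by
  haveI : Mono ι := by
    haveI : ∀ p, Mono (ι.app p) := fun p => (mono_iff_injective _).2 (hι p)
    exact NatTrans.mono_of_mono_app ι
  rintro _ _ _ ⟨m⟩
  refine ⟨fun {t b} sq => ?_⟩
  by_cases hm : m ≤ n
  · obtain ⟨v, hv⟩ : ∃ v, f.app (op ⦋m⦌) v = SSet.yonedaEquiv b := by
      rcases hm.eq_or_lt with rfl | hlt
      · exact h2 _
      · exact (h1 m hlt).2 _
    let L : Δ[m] ⟶ V := SSet.yonedaEquiv.symm v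
    have hLf : L ≫ f = b := by
      apply SSet.yonedaEquiv.injective
      rw [SSet.yonedaEquiv_comp]
      simp [L, hv]
    refine CommSq.HasLift.mk' ⟨L, ?_, hLf⟩
    rcases m with _ | k
    · exact SSet.boundary.hom_ext₀
    · refine SSet.boundary.hom_ext fun i => SSet.yonedaEquiv.injective ((h1 k (by omega)).1 ?_)
      rw [← SSet.yonedaEquiv_comp, ← SSet.yonedaEquiv_comp, Category.assoc, Category.assoc, Category.assoc,
        hLf, sq.w]
  · let β : (SimplexCategory.Truncated.inclusion n).op ⋙ (Δ[m] : SSet.{u}) ⟶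
        (SimplexCategory.Truncated.inclusion n).op ⋙ V :=
      { app := fun a => ↾fun y : (Δ[m] : SSet.{u}).obj (op a.unop.obj) => t.app (op a.unop.obj) ⟨y, by
          have h := SSet.boundary_obj_eq_univ.{u} a.unop.obj.len m (by have := a.unop.property; omega)
          exact (Set.eq_univ_iff_forall.1 h) y⟩
        naturality := fun a c g => by
          apply ConcreteCategory.hom_ext
          intro y
          show t.app (op c.unop.obj) ⟨(Δ[m] : SSet.{u}).map ((SimplexCategory.Truncated.inclusion n).op.map g) y, _⟩ =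
            V.map ((SimplexCategory.Truncated.inclusion n).op.map g) (t.app (op a.unop.obj) ⟨y, _⟩)
          exact NatTrans.naturality_apply t ((SimplexCategory.Truncated.inclusion n).op.map g) (⟨y, _⟩ : (∂Δ[m] : SSet.{u}).obj _) }
    let L : Δ[m] ⟶ V := Functor.liftOfIsRightKanExtension V (𝟙 ((SimplexCategory.Truncated.inclusion n).op ⋙ _)) (Δ[m] : SSet.{u}) β
    have hL : ∀ (a : (SimplexCategory.Truncated n)ᵒᵖ) (y : (Δ[m] : SSet.{u}).obj (op a.unop.obj)),
        L.app (op a.unop.obj) y = β.app a y := fun a y =>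
      ConcreteCategory.congr_hom (Functor.liftOfIsRightKanExtension_fac_app V (𝟙 ((SimplexCategory.Truncated.inclusion n).op ⋙ _)) (Δ[m] : SSet.{u}) β a) y
    refine CommSq.HasLift.mk' ⟨L, ?_, ?_⟩
    · refine Functor.hom_ext_of_isRightKanExtension V (𝟙 ((SimplexCategory.Truncated.inclusion n).op ⋙ _)) _ _ ?_
      apply NatTrans.ext
      funext a
      apply ConcreteCategory.hom_ext
      intro x
      exact hL a x.1
    · rw [← cancel_mono ι]
      refine Functor.hom_ext_of_isRightKanExtension U (𝟙 ((SimplexCategory.Truncated.inclusion n).op ⋙ _)) _ _ ?_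
      apply NatTrans.ext
      funext a
      apply ConcreteCategory.hom_ext
      intro y
      refine (congrArg (fun z => ι.app (op a.unop.obj) (f.app (op a.unop.obj) z)) (hL a y)).trans ?_
      exact congrArg (ι.app (op a.unop.obj))
        (ConcreteCategory.congr_hom (NatTrans.congr_app sq.w (op a.unop.obj)) _)

end Groth.Agent.LocTrivFib
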